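import Mathlib

/-!
Symmetric tensors multiply into the base field along purely inseparable extensions.
-/
set_option autoImplicit false
universe u v w
open scoped TensorProduct

namespace Groth.Agent.SymInsep

/-- Weighted orbit counting for a `p`-group in characteristic `p`. -/
theorem orbit_sum_mem {L : Type*} [CommRing L] {p : ℕ} [Fact p.Prime] [CharP L p] {G α : Type*} [Group G] [MulAction G α]
    [Fintype α] (hG : IsPGroup p G) (F : α → L) (S : AddSubgroup L) (hinv : ∀ (g : G) a, F (g • a) = F a)
    (hfix : ∀ a, (∀ g : G, g • a = a) → F a ∈ S) : ∑ a, F a ∈ S := by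
  classical
  let e := MulAction.selfEquivSigmaOrbits' G α
  rw [← e.symm.sum_comp, Fintype.sum_sigma]
  refine sum_mem fun ω _ => ?_
  induction ω using Quotient.inductionOn' with
  | h a =>
    have hval : ∀ y : MulAction.orbitRel.Quotient.orbit (Quotient.mk'' a : MulAction.orbitRel.Quotient G α),
        F (e.symm ⟨_, y⟩) = F a := fun y => by
      show F (y : α) = F a
      obtain ⟨g, hg⟩ := (Set.ext_iff.1 (MulAction.orbitRel.Quotient.orbit_mk a) _).1 y.2
      rw [← hg]; exact hinv g a
    rw [Fintype.sum_congr _ _ hval, Finset.sum_const, Finset.card_univ, ← Nat.card_eq_fintype_card]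
    have hs : MulAction.orbitRel.Quotient.orbit (Quotient.mk'' a : MulAction.orbitRel.Quotient G α) =
        MulAction.orbit G a := MulAction.orbitRel.Quotient.orbit_mk _
    rw [hs]
    obtain ⟨n, hn⟩ := hG.card_orbit a
    rw [hn]
    rcases Nat.eq_zero_or_pos n with rfl | hpos
    · rw [pow_zero, one_smul]
      refine hfix a fun g => ?_
      have : Subsingleton (MulAction.orbit G a) := (Nat.card_eq_one_iff_unique.1 (by simpa using hn)).1
      exact congrArg Subtype.val (Subsingleton.elim (⟨g • a, g, rfl⟩ : MulAction.orbit G a) ⟨a, MulAction.mem_orbit_self a⟩)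
    · rw [nsmul_eq_mul, Nat.cast_pow, CharP.cast_eq_zero, zero_pow hpos.ne', zero_mul]
      exact zero_mem _

variable {K : Type*} {L : Type*} [Field K] [Field L] [Algebra K L]

/-- Symmetric sums of products of `d` elements lie in the base when `p ^ a ∣ d` powers do. -/
theorem sum_prod_mem {ι : Type*} [Fintype ι] [DecidableEq ι] (p : ℕ) [ExpChar L p] (a d : ℕ) (hdvd : p ^ a ∣ d)
    (hpow : ∀ z : L, z ^ p ^ a ∈ (algebraMap K L).range) (c : (Fin d → ι) → K)
    (hc : ∀ (σ : Equiv.Perm (Fin d)) f, c (f ∘ σ) = c f) (b : ι → L) :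
    ∑ f : Fin d → ι, algebraMap K L (c f) * ∏ i, b (f i) ∈ (algebraMap K L).range := by
  cases ‹ExpChar L p› with
  | zero =>
    exact Subring.sum_mem _ fun f _ => Subring.mul_mem _ ⟨_, rfl⟩ (Subring.prod_mem _ fun i _ => by
      simpa using hpow (b (f i)))
  | prime hprime =>
    have := Fact.mk hprime
    obtain ⟨d', hd⟩ := hdvd
    have : NeZero (p ^ a) := ⟨pow_ne_zero _ hprime.pos.ne'⟩
    let e : Fin d ≃ ZMod (p ^ a) × Fin d' :=
      (finCongr hd).trans (finProdFinEquiv.symm.trans ((ZMod.finEquiv (p ^ a)).toEquiv.prodCongr (Equiv.refl _)))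
    let s : Equiv.Perm (ZMod (p ^ a) × Fin d') := (Equiv.addRight 1).prodCongr (Equiv.refl _)
    let act : MulAction (Multiplicative (ZMod (p ^ a))) (Fin d → ι) :=
      { smul := fun g f i => f (e.symm ((e i).1 + g.toAdd, (e i).2))
        one_smul := fun f => funext fun i => by
          show f (e.symm ((e i).1 + 0, (e i).2)) = f i
          simp
        mul_smul := fun g h f => funext fun i => by
          show f _ = f _
          simp [add_assoc] }
    have hG : IsPGroup p (Multiplicative (ZMod (p ^ a))) :=
      IsPGroup.of_card (n := a) (by rw [Nat.card_congr Multiplicative.toAdd, Nat.card_zmod])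
    refine orbit_sum_mem hG _ (algebraMap K L).range.toAddSubgroup (fun g f => ?_) fun f hf => ?_
    · let σ : Equiv.Perm (Fin d) := (e.trans ((Equiv.addRight g.toAdd).prodCongr (Equiv.refl _))).trans e.symm
      have h1 : (g • f : Fin d → ι) = f ∘ σ := rfl
      rw [h1, hc]
      congr 1
      exact Equiv.prod_comp σ (fun i => b (f i))
    · refine Subring.mul_mem _ ⟨_, rfl⟩ ?_
      have h1 : ∀ i, b (f i) = b (f (e.symm (0, (e i).2))) := fun i => by
        conv_rhs => rw [← hf (Multiplicative.ofAdd (e i).1)]
        show _ = b (f (e.symm ((e (e.symm (0, (e i).2))).1 + (e i).1, (e (e.symm (0, (e i).2))).2)))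
        simp
      rw [Fintype.prod_congr _ _ h1, ← e.symm.prod_comp, Fintype.prod_prod_type]
      simp only [Equiv.apply_symm_apply, Finset.prod_const, Finset.card_univ, ZMod.card]
      exact hpow _

/-- The product of a symmetric tensor lies in the base field. -/
theorem lift_mem {A : Type*} [CommRing A] {B : Type*} [CommRing B] [Algebra A B] [Algebra A K] [Algebra A L]
    [IsScalarTower A K L] [FiniteDimensional K L] (p : ℕ) [ExpChar L p] (a d : ℕ) (hdvd : p ^ a ∣ d)
    (hpow : ∀ z : L, z ^ p ^ a ∈ (algebraMap K L).range) (ψ : B →ₐ[A] L) (x : ⨂[A] _ : Fin d, B)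
    (hx : ∀ σ : Equiv.Perm (Fin d), PiTensorProduct.reindex A (fun _ : Fin d => B) σ x = x) :
    ψ (PiTensorProduct.lift (MultilinearMap.mkPiAlgebra A (Fin d) B) x) ∈ (algebraMap K L).range := by
  classical
  let b := Module.finBasis K L
  let T : (Fin d → Fin (Module.finrank K L)) → (⨂[A] _ : Fin d, B) →ₗ[A] K := fun f =>
    PiTensorProduct.lift ((MultilinearMap.mkPiAlgebra A (Fin d) K).compLinearMap
      fun i => ((b.coord (f i)).restrictScalars A) ∘ₗ ψ.toLinearMap)
  have key : ψ (PiTensorProduct.lift (MultilinearMap.mkPiAlgebra A (Fin d) B) x) =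
      ∑ f, algebraMap K L (T f x) * ∏ i, b (f i) := by
    clear hx
    induction x using PiTensorProduct.induction_on with
    | smul_tprod r v =>
      simp only [map_smul, PiTensorProduct.lift.tprod, T]
      simp only [MultilinearMap.mkPiAlgebra_apply, MultilinearMap.compLinearMap_apply, LinearMap.comp_apply,
        AlgHom.toLinearMap_apply, LinearMap.restrictScalars_apply, map_prod, Module.Basis.coord_apply]
      have hexp : ∀ i, ψ (v i) = ∑ j, algebraMap K L (b.repr (ψ (v i)) j) * b j := fun i => by
        conv_lhs => rw [← b.sum_repr (ψ (v i))]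
        simp [Algebra.smul_def]
      conv_lhs => rw [Finset.prod_congr rfl (fun i _ => hexp i), Fintype.prod_sum, Finset.smul_sum]
      refine Finset.sum_congr rfl fun f _ => ?_
      rw [Algebra.smul_def r, Algebra.smul_def r, map_mul, ← IsScalarTower.algebraMap_apply, map_prod,
        Finset.prod_mul_distrib]
      ring
    | add s t hs ht => simp only [map_add, add_mul, Finset.sum_add_distrib, hs, ht]
  rw [key]
  refine sum_prod_mem p a d hdvd hpow _ (fun σ f => ?_) b
  have hT : ∀ t, T f (PiTensorProduct.reindex A (fun _ : Fin d => B) σ t) = T (f ∘ σ) t := fun t => by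
    induction t using PiTensorProduct.induction_on with
    | smul_tprod r v =>
      rw [map_smul, map_smul, map_smul, PiTensorProduct.reindex_tprod]
      congr 1
      simp only [T, PiTensorProduct.lift.tprod, MultilinearMap.mkPiAlgebra_apply, MultilinearMap.compLinearMap_apply]
      rw [← Equiv.prod_comp σ]
      exact Finset.prod_congr rfl fun x _ => by simp
    | add s t hs ht => simp only [map_add, hs, ht]
  rw [← hT, hx σ]

/-- A finite extension with a single embedding over the base: powers and degree. -/
theorem exists_pow_mem [FiniteDimensional K L] (h : Subsingleton (L →ₐ[K] AlgebraicClosure L)) :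
    ∃ p a : ℕ, ExpChar L p ∧ Module.finrank K L = p ^ a ∧ ∀ z : L, z ^ p ^ a ∈ (algebraMap K L).range := by
  obtain ⟨p, hp⟩ := ExpChar.exists K
  have : ExpChar L p := expChar_of_injective_algebraMap (algebraMap K L).injective p
  have h1 : Field.finSepDegree K L = 1 := by
    rw [Field.finSepDegree_eq_of_isAlgClosed K L (AlgebraicClosure L)]
    have : Nonempty (L →ₐ[K] AlgebraicClosure L) := ⟨IsScalarTower.toAlgHom K L (AlgebraicClosure L)⟩
    exact Nat.card_eq_one_iff_unique.2 ⟨h, this⟩
  have : IsPurelyInseparable K L := isPurelyInseparable_of_finSepDegree_eq_one h1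
  obtain ⟨a, ha⟩ := IsPurelyInseparable.finrank_eq_pow K L p
  refine ⟨p, a, inferInstance, ha, fun z => ?_⟩
  obtain ⟨n, y, hy⟩ := IsPurelyInseparable.minpoly_eq_X_pow_sub_C K p z
  have hz : z ^ p ^ n = algebraMap K L y := by
    have := minpoly.aeval K z
    rwa [hy, map_sub, map_pow, Polynomial.aeval_X, Polynomial.aeval_C, sub_eq_zero] at this
  have hle : p ^ n ≤ p ^ a := by
    have h2 := minpoly.natDegree_le (A := K) z
    rwa [hy, Polynomial.natDegree_X_pow_sub_C, ha] at h2
  cases hp with
  | zero =>
    simp only [one_pow, pow_one] at hz ⊢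
    exact ⟨y, hz.symm⟩
  | prime hpr =>
    have hna : n ≤ a := (Nat.pow_le_pow_iff_right hpr.one_lt).1 hle
    exact ⟨y ^ p ^ (a - n), by rw [map_pow, ← hz, ← pow_mul, ← pow_add, Nat.add_sub_cancel' hna]⟩

end Groth.Agent.SymInsep
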